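import Cfsg.Agent.Mrg.Omega.Node.MulG
import Cfsg.Agent.Mrg.Omega.OM.Swap.Fam.NoOvM
import Cfsg.Agent.Mrg.Omega.NO3S.Level.Cut


/-!
# Offenders on `⟨V_P^F⟩` in the case (L) (helper359, `OffW`)

`CaseL S P`, `K₀ = Q = O₂(P)`, `V = V_P = Ω₁(Z(Q))`, `F` over a 2-group `T ≥ B` with all levels of `S` in `O₂(F)`.

* `best_of_le` : a best offender on `U` is a best offender on `V ≤ U`;
* `WL.le_nxt_of_best` : best offenders on `Ω₁(Z(K₀))` in a 2-group `T ≥ nxt S K₀` lie in `nxt S K₀`;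
* `elab_V` : `⟨V_P^F⟩` is elementary abelian, if `lim S ≤ O₂(F)`;
* `fam_of_off` : **the family** `𝓐 = ` best offenders of `F` on `⟨V_P^F⟩`, from one member `A ≤ T`, `A ≰ O₂(F)`;
* `fix_of_off` : **fixed points do not lift**: `⟨V_P^F⟩ ∩ Ω₁(Z(O₂(F)))` is centralised by `O²(F)`, if `F` centralises
  `Ω₁(Z(T))`.
-/

set_option autoImplicit false

namespace Cfsg.Agent.Omega.OM.SwapK

open Subgroup Cfsg Cfsg.Agent.ZN.ChoiceBase Cfsg.Agent.ZN.ChoiceSit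
open Cfsg.Agent.ZN (jj zj bau zc zl o2)
open Cfsg.Agent.MinSimple.MinParabolic (IsMinPar)
open Cfsg.Agent.MinSimple.VModule (oddGen oddGen_le)
open Cfsg.Agent.Omega.LemmaK (Block WeakNormal)
open Cfsg.Agent.Omega.NO1.BestOff (Best)
open Cfsg.Agent.Omega.OM.LevD (LB)
open Cfsg.Agent.Omega.NO3S.Level
open Cfsg.Agent.Omega.OM.Swap.Fam (Fm BF fm_best)

universe u

variable {G : Type u} [Group G]

/-- A best offender on `U` is a best offender on `V ≤ U`. -/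
theorem best_of_le [Finite G] {U V A : Subgroup G} (hc : ∀ x ∈ U, ∀ y ∈ U, x * y = y * x) (h : Best U A)
    (hV : V ≤ U) : Best V A where
  sq := fun a ha => centralizer_le hV (h.sq a ha)
  comm := fun a ha b hb => centralizer_le hV (h.comm a ha b hb)
  max := fun Y hY hYc => by
    have h3 := best_sub hc h hV hYc hY
    have h4 := h.max Y hY (le_trans (inf_le_inf_left _ (centralizer_le hV)) hYc)
    have hp : 0 < Nat.card ↥(U ⊓ centralizer (A : Set G)) := Nat.card_pos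
    refine Nat.le_of_mul_le_mul_right (c := Nat.card ↥(U ⊓ centralizer (A : Set G))) (h3.trans ?_) hp
    calc Nat.card Y * Nat.card ↥(U ⊓ centralizer (Y : Set G)) * Nat.card ↥(V ⊓ centralizer (A : Set G))
        ≤ Nat.card A * Nat.card ↥(U ⊓ centralizer (A : Set G)) * Nat.card ↥(V ⊓ centralizer (A : Set G)) :=
          Nat.mul_le_mul_right _ h4
      _ = _ := by ring

variable [Finite G] {S : Sylow 2 G} {P K₀ T F : Subgroup G}

theorem WL.le_nxt_of_best (h : WL S K₀) (hT : IsPGroup 2 T) (hK : nxt (S : Subgroup G) K₀ ≤ T) {X : Subgroup G}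
    (hX : X ≤ T) (hb : Best (zc K₀) X) : X ≤ nxt (S : Subgroup G) K₀ := by
  have h1 : X ≤ nxt T K₀ := BO.le_nxt ⟨hX, hb⟩
  rwa [h.nxt_T hT hK] at h1

theorem wl_caseL (h : CaseL S P) : WL S (o2 P) := ⟨h.wc, h.levQ⟩

/-- `⟨V_P^F⟩` -/
abbrev VF (S : Sylow 2 G) (P F : Subgroup G) : Subgroup G := NoFF.Basic.V (zl (S : Subgroup G) P) F

omit [Finite G] in
theorem V_le_VF : zl (S : Subgroup G) P ≤ VF S P F := by
  have h1 := NoFF.Basic.Z_le_V (Z := zl (S : Subgroup G) P) (one_mem F)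
  rwa [map_one, one_smul] at h1

/-- `V_P ≤ Ω₁(Z(lim S))`, if all levels lie in `O₂(P)`. -/
theorem V_le_lim (h : CaseL S P) (hlim : lim (S : Subgroup G) ≤ o2 P) :
    zl (S : Subgroup G) P ≤ zc (lim (S : Subgroup G)) := by
  rw [← h.zc_eq]
  exact (isLev_lim (S : Subgroup G)).zc_le_zc hlim h.wc.le

theorem VF_le_lim (h : CaseL S P) (hlim : lim (S : Subgroup G) ≤ o2 P) (hF : F ≤ normalizer (lim (S : Subgroup G) : Set G)) :
    VF S P F ≤ zc (lim (S : Subgroup G)) := NoFF.Basic.V_le fun f hf => by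
  have h1 := cj_mono f (V_le_lim h hlim)
  rwa [cj_eq_of_mem_normalizer (normalizer_le_zc _ (hF hf))] at h1

theorem elab_VF (h : CaseL S P) (hlim : lim (S : Subgroup G) ≤ o2 P)
    (hF : F ≤ normalizer (lim (S : Subgroup G) : Set G)) : IsElementaryAbelian 2 (VF S P F) := by
  have hle := VF_le_lim h hlim hF
  exact ⟨⟨⟨fun a b => Subtype.ext (Lev.zc_comm (hle a.2) (hle b.2))⟩⟩, fun a ha => (mem_zc.1 (hle ha)).2.1⟩

/-- `F` normalises `lim S`, if `lim S ≤ O₂(F)`. -/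
theorem norm_lim_of (S : Sylow 2 G) (hl : lim (S : Subgroup G) ≤ o2 F) :
    F ≤ normalizer (lim (S : Subgroup G) : Set G) :=
  (le_normalizer_o2 F).trans fun _ hg =>
    mem_normalizer_iff_cj.2 (LevD.norm_of_wc (wc_lim (S := S)) (isPGroup_o2 F) hl hg)

/-- **The family.** -/
theorem fam_of_off (h : CaseL S P) (hlim : lim (S : Subgroup G) ≤ o2 P) (hT : Syl T F)
    (hB : BK (S : Subgroup G) (o2 P) ≤ T) (hl : lim (S : Subgroup G) ≤ o2 F)
    (hoff : ∃ A, A ≤ T ∧ Best (VF S P F) A ∧ ¬ A ≤ o2 F) :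
    ∃ 𝓐 : Set (Subgroup G),
      (∀ Λ : Subgroup G, IsElementaryAbelian 2 Λ → Λ ≤ F → F ≤ normalizer (Λ : Set G) → Λ ≤ VF S P F → Fm F Λ 𝓐) ∧
      (∃ X ∈ 𝓐, X ≤ T ∧ ¬ X ≤ o2 F) ∧
      ∀ X ∈ 𝓐, X ≤ T → X ≤ BK (S : Subgroup G) (o2 P) ∧
        ((∀ a ∈ X, ∀ v ∈ zl (S : Subgroup G) P, a * v = v * a) ∨ Best (zc (o2 P)) X) := by
  have hFN := norm_lim_of S hl
  have hel := elab_VF h hlim hFN
  have hc : ∀ x ∈ VF S P F, ∀ y ∈ VF S P F, x * y = y * x := fun x hx y hy =>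
    Lev.zc_comm (VF_le_lim h hlim hFN hx) (VF_le_lim h hlim hFN hy)
  refine ⟨BF F (VF S P F), fun Λ _ _ hn hle => fm_best hel OmThm.XD.X_le_normalizer_W hle hn, ?_, fun X hX hXT => ?_⟩
  · obtain ⟨A, hA, hb, hn⟩ := hoff
    exact ⟨A, ⟨hA.trans hT.1, hT.2.1.to_le hA, hb⟩, hA, hn⟩
  · have hb : Best (zc (o2 P)) X := best_of_le hc hX.2.2 (h.zc_eq.trans_le V_le_VF)
    exact ⟨((wl_caseL h).le_nxt_of_best hT.2.1 ((wl_caseL h).lb.KB.trans hB) hXT hb).trans (wl_caseL h).lb.KB,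
      Or.inr hb⟩

/-- **Fixed points do not lift.** -/
theorem fix_of_off (h : CaseL S P) (hlim : lim (S : Subgroup G) ≤ o2 P) (hT : Syl T F) (hmin : IsMinPar T F)
    (hl : lim (S : Subgroup G) ≤ o2 F) (hz : F ≤ centralizer (zc T : Set G))
    (hoff : ∃ A, A ≤ T ∧ Best (VF S P F) A ∧ ¬ A ≤ o2 F) :
    VF S P F ⊓ zc (o2 F) ≤ centralizer (oddGen F : Set G) := by
  obtain ⟨A, hAT, hb, hAO⟩ := hoff
  have hFN := norm_lim_of S hl
  have hOT : o2 F ≤ T := o2_le_syl hT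
  have hc : ∀ x ∈ VF S P F, ∀ y ∈ VF S P F, x * y = y * x := fun x hx y hy =>
    Lev.zc_comm (VF_le_lim h hlim hFN hx) (VF_le_lim h hlim hFN hy)
  have hb' : Best (VF S P F ⊓ zc (o2 F)) A := best_of_le hc hb inf_le_left
  have hUO : VF S P F ⊓ zc (o2 F) ≤ o2 F := inf_le_right.trans (zc_le _)
  have hsq : ∀ y ∈ VF S P F ⊓ zc (o2 F), y ^ 2 = 1 := fun u hu => (mem_zc.1 hu.2).2.1
  have hcom : VF S P F ⊓ zc (o2 F) ≤ centralizer ((VF S P F ⊓ zc (o2 F) : Subgroup G) : Set G) := by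
    intro u hu
    rw [mem_centralizer_iff]
    exact fun v hv => (mem_zc.1 hu.2).2.2 v (mem_zc.1 hv.2).1
  have hN : F ≤ normalizer ((VF S P F ⊓ zc (o2 F) : Subgroup G) : Set G) :=
    NO3b.K0.norm_inf OmThm.XD.X_le_normalizer_W ((le_normalizer_o2 F).trans (normalizer_le_zc _))
  have hQ : o2 F ≤ centralizer ((VF S P F ⊓ zc (o2 F) : Subgroup G) : Set G) :=
    (le_centralizer_zc _).trans (centralizer_le inf_le_right)
  refine NO3S.Fld.ff_lemma_off FF.Glob.aStmt hT hmin (hUO.trans (o2_le F)) hsq hcom hN hQ ?_ hAT hAO hb'.toElemM ?_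
  · rintro x ⟨hx, hxT⟩
    have hxz : x ∈ zc T := mem_zc.2 ⟨hOT (hUO hx), hsq x hx, fun t ht => mem_centralizer_iff.1 hxT t ht⟩
    rw [mem_centralizer_iff]
    exact fun e he => (mem_centralizer_iff.1 (hz (oddGen_le F he)) x hxz).symm
  · have h2 := hb'.max (A ⊓ centralizer ((VF S P F ⊓ zc (o2 F) : Subgroup G) : Set G)) inf_le_left le_rfl
    have e : (VF S P F ⊓ zc (o2 F)) ⊓ centralizer ((A ⊓ centralizer ((VF S P F ⊓ zc (o2 F) : Subgroup G) : Set G) :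
        Subgroup G) : Set G) = VF S P F ⊓ zc (o2 F) :=
      inf_eq_left.2 (le_centralizer_iff.1 inf_le_right)
    rw [e, mul_comm] at h2
    exact h2

end Cfsg.Agent.Omega.OM.SwapK
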